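import Cfsg.Agent.Lib.Helper84.NormCompl

/-!
# Variants of `NormCompl` with `N_L(P)` acting trivially on `P` modulo `K₀`
-/

set_option autoImplicit false
open Cfsg
open scoped commutatorElement

namespace Cfsg.Agent.Lib.Helper84

variable {G : Type*} [Group G] [Finite G] {p : ℕ} [Fact p.Prime]

/-- Burnside-type fusion modulo `K₀`. -/
theorem fusion_mod' (P : Sylow p G) (K0 L : Subgroup G) [K0.Normal] [L.Normal]
    (hPL : (P : Subgroup G) ≤ L)
    (hNL : ∀ v ∈ Subgroup.normalizer ((P : Subgroup G) : Set G) ⊓ L, ∀ x ∈ (P : Subgroup G),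
      ⁅v, x⁆ ∈ K0)
    (hPK : ⁅(P : Subgroup G), (P : Subgroup G)⁆ ≤ K0) {x u : G} (hx : x ∈ (P : Subgroup G))
    (hu : u ∈ L) (hy : u * x * u⁻¹ ∈ (P : Subgroup G)) : x⁻¹ * (u * x * u⁻¹) ∈ K0 := by
  set y := u * x * u⁻¹ with hydef
  set f := QuotientGroup.mk' K0 with hf
  let C : Subgroup G := (Subgroup.centralizer {f y}).comap f ⊓ L
  have hcomm : ∀ a b : G, ⁅a, b⁆ ∈ K0 → f b * f a = f a * f b := by
    intro a b hab
    have h1 : f ⁅a, b⁆ = 1 := (QuotientGroup.eq_one_iff _).2 hab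
    rw [commutatorElement_def, map_mul, map_mul, map_mul, map_inv, map_inv] at h1
    have h2 : f a * f b = f b * f a := by
      have := congrArg (fun t => t * f b * f a) h1
      simpa [mul_assoc] using this
    exact h2.symm
  have hPC : (P : Subgroup G) ≤ C := by
    intro c hc
    refine ⟨?_, hPL hc⟩
    show f c ∈ Subgroup.centralizer {f y}
    rw [Subgroup.mem_centralizer_singleton_iff]
    exact (hcomm c y (hPK (Subgroup.commutator_mem_commutator hc hy))).symm
  have huPC : ((u • P : Sylow p G) : Subgroup G) ≤ C := by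
    intro c hc
    rw [Sylow.coe_subgroup_smul, Subgroup.mem_pointwise_smul_iff_inv_smul_mem] at hc
    have hc' : u⁻¹ * c * u ∈ (P : Subgroup G) := by
      simpa [MulAut.smul_def, MulAut.conj_apply] using hc
    have hcL : c ∈ L := by
      have h1 := hPL hc'
      have h2 := Subgroup.Normal.conj_mem (inferInstance : L.Normal) _ h1 u
      simpa [mul_assoc] using h2
    refine ⟨?_, hcL⟩
    show f c ∈ Subgroup.centralizer {f y}
    rw [Subgroup.mem_centralizer_singleton_iff]
    apply (hcomm c y _).symm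
    have h1 : ⁅u⁻¹ * c * u, x⁆ ∈ K0 := hPK (Subgroup.commutator_mem_commutator hc' hx)
    have h2 := Subgroup.Normal.conj_mem (inferInstance : K0.Normal) _ h1 u
    have h3 : u * ⁅u⁻¹ * c * u, x⁆ * u⁻¹ = ⁅c, y⁆ := by
      rw [hydef, commutatorElement_def, commutatorElement_def]
      group
    rwa [h3] at h2
  obtain ⟨c, hcC, hc⟩ := exists_smul_eq_of_le P (u • P) C hPC huPC
  rw [← mul_smul, Sylow.smul_eq_iff_mem_normalizer] at hc
  -- modulo K0
  have e1 : f (c * u) * f x = f x * f (c * u) :=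
    (hcomm (c * u) x (hNL _ ⟨hc, mul_mem hcC.2 hu⟩ x hx)).symm
  have e2 : f c * f y = f y * f c := by
    have : f c ∈ Subgroup.centralizer {f y} := hcC.1
    rw [Subgroup.mem_centralizer_singleton_iff] at this
    exact this
  have e3 : f y = f u * f x * (f u)⁻¹ := by
    rw [hydef, map_mul, map_mul, map_inv]
  have e4 : f x = f y := by
    have h1 : f c * f y * (f c)⁻¹ = f y := by rw [e2, mul_inv_cancel_right]
    have h2 : f c * f y * (f c)⁻¹ = f (c * u) * f x * (f (c * u))⁻¹ := by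
      rw [e3, map_mul, mul_inv_rev]
      group
    rw [← h1, h2, e1, mul_inv_cancel_right]
  rw [← QuotientGroup.eq]
  exact e4

theorem exists_normal_coprime_sup (P : Sylow p G) (K0 L : Subgroup G) [K0.Normal] [L.Normal]
    (hPL : (P : Subgroup G) ≤ L)
    (hNL : ∀ v ∈ Subgroup.normalizer ((P : Subgroup G) : Set G) ⊓ L, ∀ x ∈ (P : Subgroup G),
      ⁅v, x⁆ ∈ K0)
    (hPK : ⁅(P : Subgroup G), (P : Subgroup G)⁆ ≤ K0)
    (hKP : K0 ⊓ (P : Subgroup G) ≤ ⁅(P : Subgroup G), (P : Subgroup G)⁆) :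
    ∃ K : Subgroup G, K.Normal ∧ (Nat.card K).Coprime p ∧
      K ⊔ Subgroup.normalizer ((P : Subgroup G) : Set G) = ⊤ := by
  set P1 : Sylow p L := P.subtype hPL with hP1
  have hmap : ((P1 : Subgroup L)).map L.subtype = (P : Subgroup G) := by
    rw [hP1, Sylow.coe_subtype, Subgroup.map_subgroupOf_eq_of_le hPL]
  have hfoc : (P1 : Subgroup L).focalSubgroup ≤ ⁅(P1 : Subgroup L), (P1 : Subgroup L)⁆ := by
    rw [Subgroup.focalSubgroup_def, Subgroup.closure_le]
    rintro g ⟨hg, x, hx, u, hgxu⟩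
    have hgP : (g : G) ∈ (P : Subgroup G) := hg
    have hxP : (x : G) ∈ (P : Subgroup G) := hx
    have hg' : (g : G) = (x : G) * u * (x : G)⁻¹ * (u : G)⁻¹ := by
      rw [hgxu, commutatorElement_def]
      simp
    have hy : (u : G) * (x : G)⁻¹ * (u : G)⁻¹ ∈ (P : Subgroup G) := by
      have : (u : G) * (x : G)⁻¹ * (u : G)⁻¹ = (x : G)⁻¹ * g := by
        rw [hg']; group
      rw [this]
      exact mul_mem (inv_mem hxP) hgP
    have h1 := fusion_mod' P K0 L hPL hNL hPK (inv_mem hxP) u.2 hy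
    have h2 : (g : G) ∈ K0 := by
      have : (g : G) = ((x : G)⁻¹)⁻¹ * ((u : G) * (x : G)⁻¹ * (u : G)⁻¹) := by
        rw [hg']; group
      rw [this]
      exact h1
    have h3 := hKP ⟨h2, hgP⟩
    rw [← hmap, ← Subgroup.map_commutator] at h3
    obtain ⟨g', hg'', hgg⟩ := h3
    have : g' = g := Subtype.ext hgg
    rw [← this]
    exact hg''
  obtain ⟨C0, hC0n, hC0c, hC0p, hC0m⟩ :=
    Cfsg.Agent.Lib.Helper40.HasNormalPComplement.exists_normal (npc_of_focal P1 hfoc)
  have hcompl := Cfsg.Agent.Lib.Helper40.isComplement'_sylow_of_coprime_of_isPGroup C0 hC0c hC0p P1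
  have hKc : (Nat.card (C0.map L.subtype)).Coprime p := by
    rw [Subgroup.card_map_of_injective L.subtype_injective]
    exact hC0c
  refine ⟨C0.map L.subtype, ⟨?_⟩, hKc, ?_⟩
  · rintro _ ⟨c, hc, rfl⟩ g
    have hT : g * (c : G) * g⁻¹ ∈ L := Subgroup.Normal.conj_mem inferInstance _ c.2 g
    refine ⟨⟨_, hT⟩, ?_, rfl⟩
    have hc' := (hC0m c).1 hc
    show (⟨_, hT⟩ : L) ∈ C0
    rw [hC0m, ← Subgroup.orderOf_coe]
    rw [← Subgroup.orderOf_coe] at hc'
    have : orderOf (g * (c : G) * g⁻¹) = orderOf (c : G) := (MulAut.conj g).orderOf_eq _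
    show (orderOf (g * (c : G) * g⁻¹)).Coprime p
    rw [this]
    exact hc'
  · have h1 : C0.map L.subtype ⊔ (P : Subgroup G) = L := by
      rw [← hmap, ← Subgroup.map_sup, hcompl.sup_eq_top, ← MonoidHom.range_eq_map, Subgroup.range_subtype]
    have h2 := Sylow.normalizer_sup_eq_top' P hPL
    have h3 : (P : Subgroup G) ≤ Subgroup.normalizer ((P : Subgroup G) : Set G) :=
      Subgroup.le_normalizer
    have h4 : L ≤ C0.map L.subtype ⊔ Subgroup.normalizer ((P : Subgroup G) : Set G) :=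
      h1.ge.trans (sup_le le_sup_left (h3.trans le_sup_right))
    rw [eq_top_iff, ← h2]
    exact sup_le le_sup_right h4

end Cfsg.Agent.Lib.Helper84
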