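import Cfsg.Agent.S0081
import Cfsg.Agent.Lib.Helper5.LinExt
import Cfsg.Agent.Lib.Helper40.PComp
import Cfsg.Agent.Lib.Helper80.Cores
import Cfsg.Agent.Lib.Helper3.PGroup
import Cfsg.Agent.Lib.Helper82.CharKer
import Cfsg.Agent.Lib.Helper82.Linear

/-!
# Characters of degree prime to `p` and Tate's theorem

* `exists_irr_not_dvd_ne`: `U ≤ G` of index prime to `p`, `x ∈ U ∖ U'`: some irreducible character of
  `G` of degree prime to `p` does not have `x` in its kernel.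
* `tate_cor`: `T ⊴ G` with `T ∩ P ≤ P'`: `T / (T ∩ O_{p'}(G))` is a `p`-group.
* `le_of_coprime_relIndex`.
-/

set_option autoImplicit false
open Cfsg
open scoped ComplexConjugate

namespace Cfsg.Agent.Lib.Helper84

open Cfsg.Agent.Lib.Helper82 Cfsg.Agent.Lib.Helper20 Cfsg.Agent.Lib.Helper5

variable {G : Type*} [Group G] [Finite G]

/-- a linear constituent of the restriction of `χ` is trivial on the kernel of `χ` -/
theorem linear_eq_one_of_ker [Fintype G] (U : Subgroup G) [Fintype U] {μ : U → ℂ}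
    (hμ : IsCharacter U μ) (hμ1 : μ 1 = 1) {χ : G → ℂ} (hχ : IsCharacter G χ)
    (hne : classInner μ (fun u : U => χ u) ≠ 0) (x : U) (hx : χ x = χ 1) : μ x = 1 := by
  have h1 : classInner μ (fun u : U => χ u) = μ x * classInner μ (fun u : U => χ u) := by
    unfold classInner
    rw [mul_left_comm]
    congr 1
    rw [Finset.mul_sum, ← Equiv.sum_comp (Equiv.mulRight x)]
    apply Finset.sum_congr rfl
    intro u _
    simp only [Equiv.coe_mulRight, Subgroup.coe_mul]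
    rw [isChar_linear_mul hμ hμ1, isChar_mul_of_mem_ker hχ hx]
    ring
  have h2 : (μ x - 1) * classInner μ (fun u : U => χ u) = 0 := by
    rw [sub_mul, one_mul, ← h1, sub_self]
  rcases mul_eq_zero.1 h2 with h | h
  · exact sub_eq_zero.1 h
  · exact absurd h hne

theorem exists_irr_not_dvd_ne {p : ℕ} (U : Subgroup G) (hU : ¬ p ∣ U.index) {x : G} (hxU : x ∈ U)
    (hx : x ∉ ⁅U, U⁆) :
    ∃ χ : IrrCharacter G, ¬ p ∣ charDegree (χ : G → ℂ) ∧ (χ : G → ℂ) x ≠ (χ : G → ℂ) 1 := by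
  classical
  have := Fintype.ofFinite G
  have hx' : (⟨x, hxU⟩ : U) ∉ commutator U := by
    intro h
    apply hx
    rw [← Subgroup.map_subtype_commutator]
    exact ⟨⟨x, hxU⟩, h, rfl⟩
  obtain ⟨μ, hμ, hμ1, hμx⟩ := exists_linear_ne_one hx'
  have hd : charDegree μ = 1 := by
    have := isChar_one_eq hμ
    rw [hμ1] at this
    exact_mod_cast this.symm
  have hφ := Cfsg.Agent.Lib.Helper19.isCharacter_indFun U μ hμ
  obtain ⟨χ, hχ, hχp⟩ := exists_constituent_not_dvd (p := p) hφ (by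
    rw [charDegree_indFun U hμ, hd, mul_one]
    exact hU)
  refine ⟨χ, hχp, fun hker => hμx ?_⟩
  rw [Cfsg.Agent.Lib.Helper19.frobenius_reciprocity U μ _
    (isChar_isClassFunction (isIrr_isChar χ.2))] at hχ
  exact linear_eq_one_of_ker U hμ hμ1 (isIrr_isChar χ.2) hχ ⟨x, hxU⟩ hker

theorem eq_one_of_mem_pgroup_of_coprime {p : ℕ} {Q A : Subgroup G} (hQ : IsPGroup p Q)
    (hA : (Nat.card A).Coprime p) {z : G} (hzQ : z ∈ Q) (hzA : z ∈ A) : z = 1 := by
  obtain ⟨k, hk⟩ := hQ ⟨z, hzQ⟩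
  have h1 : orderOf z ∣ p ^ k := by
    apply orderOf_dvd_of_pow_eq_one
    simpa using congrArg Subtype.val hk
  have h2 : orderOf z ∣ Nat.card A := Subgroup.orderOf_dvd_natCard A hzA
  have h3 : (Nat.card A).Coprime (p ^ k) := Nat.Coprime.pow_right k hA
  exact orderOf_eq_one_iff.1 (Nat.eq_one_of_dvd_coprimes h3 h2 h1)

/-- the same with `O_{p'}(G)` in the kernel -/
theorem exists_irr_not_dvd_ne_core {p : ℕ} [Fact p.Prime] (P : Sylow p G) {x : G}
    (hxP : x ∈ (P : Subgroup G)) (hx : x ∉ ⁅(P : Subgroup G), (P : Subgroup G)⁆) :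
    ∃ χ : IrrCharacter G, ¬ p ∣ charDegree (χ : G → ℂ) ∧
      (∀ n ∈ pPrimeCore p G, (χ : G → ℂ) n = (χ : G → ℂ) 1) ∧
      (χ : G → ℂ) x ≠ (χ : G → ℂ) 1 := by
  have hA := Cfsg.Agent.Lib.Helper80.pPrimeCore_spec (G := G) p
  have := hA.1
  set A := pPrimeCore p G with hAdef
  set f := QuotientGroup.mk' A with hf
  have hfs : Function.Surjective f := QuotientGroup.mk'_surjective A
  have hidx : ¬ p ∣ ((P : Subgroup G).map f).index := fun h =>
    P.not_dvd_index (h.trans (Subgroup.index_map_dvd _ hfs))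
  have hxc : f x ∉ ⁅(P : Subgroup G).map f, (P : Subgroup G).map f⁆ := by
    rw [← Subgroup.map_commutator]
    rintro ⟨y, hy, hyx⟩
    have hyP : y ∈ (P : Subgroup G) := Subgroup.commutator_le_self _ hy
    have h1 : y⁻¹ * x ∈ A := by
      rw [← QuotientGroup.eq]
      exact hyx
    have h2 : y⁻¹ * x ∈ (P : Subgroup G) := mul_mem (inv_mem hyP) hxP
    have h3 : y⁻¹ * x = 1 := eq_one_of_mem_pgroup_of_coprime P.2 hA.2 h2 h1
    apply hx
    rw [inv_mul_eq_one] at h3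
    rw [← h3]
    exact hy
  obtain ⟨ψ, hψ, hψx⟩ := exists_irr_not_dvd_ne (p := p) ((P : Subgroup G).map f) hidx
    (Subgroup.mem_map_of_mem f hxP) hxc
  refine ⟨⟨fun g => (ψ : G ⧸ A → ℂ) (g : G ⧸ A), isIrr_inflate ψ.2⟩, hψ, ?_, hψx⟩
  intro n hn
  show (ψ : G ⧸ A → ℂ) (n : G ⧸ A) = (ψ : G ⧸ A → ℂ) ((1 : G) : G ⧸ A)
  rw [(QuotientGroup.eq_one_iff n).2 hn, QuotientGroup.mk_one]

/-- Corollary of Tate's theorem. -/
theorem tate_cor {p : ℕ} [Fact p.Prime] (P : Sylow p G) (T : Subgroup G) [T.Normal]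
    (h : T ⊓ (P : Subgroup G) ≤ ⁅(P : Subgroup G), (P : Subgroup G)⁆) :
    ∃ C : Subgroup G, C.Normal ∧ (Nat.card C).Coprime p ∧ C ≤ T ∧ ∃ k : ℕ, C.relIndex T = p ^ k := by
  have h1 : T ⊓ (P : Subgroup G) ≤ (frattini P).map (P : Subgroup G).subtype := by
    refine h.trans ?_
    rw [← Subgroup.map_subtype_commutator]
    exact Subgroup.map_mono (Cfsg.Agent.Lib.Helper3.commutator_le_frattini P.2)
  obtain ⟨C0, hC0n, hC0c, hC0p, hC0m⟩ :=
    Cfsg.Agent.Lib.Helper40.HasNormalPComplement.exists_normal (Cfsg.Agent.S0081.result P T h1)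
  refine ⟨C0.map T.subtype, ⟨?_⟩, ?_, Subgroup.map_subtype_le _, ?_⟩
  · rintro _ ⟨c, hc, rfl⟩ g
    have hT : g * (c : G) * g⁻¹ ∈ T := Subgroup.Normal.conj_mem inferInstance _ c.2 g
    refine ⟨⟨_, hT⟩, ?_, rfl⟩
    have hc' := (hC0m c).1 hc
    show (⟨_, hT⟩ : T) ∈ C0
    rw [hC0m, ← Subgroup.orderOf_coe]
    rw [← Subgroup.orderOf_coe] at hc'
    have : orderOf (g * (c : G) * g⁻¹) = orderOf (c : G) := (MulAut.conj g).orderOf_eq _
    show (orderOf (g * (c : G) * g⁻¹)).Coprime p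
    rw [this]
    exact hc'
  · rw [Subgroup.card_map_of_injective T.subtype_injective]
    exact hC0c
  · obtain ⟨k, hk⟩ := IsPGroup.iff_card.1 hC0p
    refine ⟨k, ?_⟩
    have e : (C0.map T.subtype).subgroupOf T = C0 :=
      Subgroup.comap_map_eq_self_of_injective T.subtype_injective C0
    rw [Subgroup.relIndex, e, Subgroup.index_eq_card]
    exact hk

/-- `K ⊴ G` containing `O_{p'}(G)` with `K ∩ P ≤ P'`: no normal subgroup `T > K` has `T / K` a
`p'`-group, i.e. `O_{p'}(G / K) = 1`. -/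
theorem le_of_coprime_relIndex {p : ℕ} [Fact p.Prime] (P : Sylow p G) (K T : Subgroup G) [K.Normal]
    [T.Normal] (hA : pPrimeCore p G ≤ K)
    (hKP : K ⊓ (P : Subgroup G) ≤ ⁅(P : Subgroup G), (P : Subgroup G)⁆) (hKT : K ≤ T)
    (hcop : (K.relIndex T).Coprime p) : T ≤ K := by
  have hTP : T ⊓ (P : Subgroup G) ≤ K := by
    rintro x ⟨hxT, hxP⟩
    have h1 : (⟨x, hxT⟩ : T) ^ (K.subgroupOf T).index ∈ K.subgroupOf T :=
      Subgroup.pow_index_mem _ _
    have h2 : x ^ K.relIndex T ∈ K := by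
      have := Subgroup.mem_subgroupOf.1 h1
      simpa [Subgroup.relIndex] using this
    obtain ⟨k, hk⟩ := P.2 ⟨x, hxP⟩
    have h3 : orderOf x ∣ p ^ k := by
      apply orderOf_dvd_of_pow_eq_one
      simpa using congrArg Subtype.val hk
    have h4 : (K.relIndex T).Coprime (orderOf x) :=
      Nat.Coprime.coprime_dvd_right h3 (Nat.Coprime.pow_right k hcop)
    obtain ⟨m, hm⟩ := exists_pow_eq_self_of_coprime h4
    rw [← hm]
    exact pow_mem h2 m
  obtain ⟨C, hCn, hCc, hCT, k, hk⟩ := tate_cor P T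
    ((le_inf hTP inf_le_right).trans hKP)
  have hCK : C ≤ K := (Cfsg.Agent.Lib.Helper80.le_pPrimeCore hCn hCc).trans hA
  have h5 : K.relIndex T ∣ p ^ k := hk ▸ Subgroup.relIndex_dvd_of_le_left T hCK
  have h6 : K.relIndex T = 1 :=
    Nat.eq_one_of_dvd_coprimes (Nat.Coprime.pow_right k hcop) dvd_rfl h5
  exact Subgroup.relIndex_eq_one.1 h6

end Cfsg.Agent.Lib.Helper84
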