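import Cfsg.Agent.Lib.Helper84.PPrimeDeg
import Cfsg.Agent.Lib.Helper19.NormalKer
import Cfsg.Agent.Lib.Helper77.GlaubCore
import Cfsg.Agent.Lib.Helper83.TwoClassN

/-!
# Characters of degree prime to `p` over a normal `p`-subgroup

* `kerOf X`: intersection of the kernels of a family of irreducible characters.
* `commutator_le_ker_of_not_dvd`: `R ⊴ Y` a `p`-group, `θ ∈ Irr(Y)` of degree prime to `p`: `R' ≤ ker θ`.
* `exists_irr_quot_ne`: `R ⊴ Y` of index prime to `p`, `x ∉ R`: some `θ ∈ Irr(Y/R)` (degree prime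
  to `p`) with `x ∉ ker θ`.
-/

set_option autoImplicit false
open Cfsg
open scoped ComplexConjugate

namespace Cfsg.Agent.Lib.Helper84

open Cfsg.Agent.Lib.Helper82 Cfsg.Agent.Lib.Helper20 Cfsg.Agent.Lib.Helper5

variable {G : Type*} [Group G] [Finite G]

/-- intersection of the kernels of a family of irreducible characters -/
def kerOf (X : Set (IrrCharacter G)) : Subgroup G :=
  ⨅ χ : X, charKer ((χ : IrrCharacter G) : G → ℂ) (isIrr_isChar (χ : IrrCharacter G).2)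

theorem mem_kerOf {X : Set (IrrCharacter G)} {g : G} :
    g ∈ kerOf X ↔ ∀ χ ∈ X, (χ : G → ℂ) g = (χ : G → ℂ) 1 := by
  unfold kerOf
  rw [Subgroup.mem_iInf]
  constructor
  · intro h χ hχ
    exact h ⟨χ, hχ⟩
  · intro h χ
    exact h χ χ.2

instance kerOf_normal (X : Set (IrrCharacter G)) : (kerOf X).Normal := by
  unfold kerOf
  exact Subgroup.normal_iInf_normal fun χ => inferInstance

theorem irr_pgroup_linear_of_not_dvd {p : ℕ} [Fact p.Prime] (hG : IsPGroup p G) {χ : G → ℂ}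
    (hχ : IsIrrCharacter G χ) (hp : ¬ p ∣ charDegree χ) : χ 1 = 1 := by
  obtain ⟨d, hd1, hd2, hd3⟩ := Cfsg.Agent.Lib.Helper77.irr_degree_dvd hχ
  have hd : charDegree χ = d := by
    have := isChar_one_eq (isIrr_isChar hχ)
    rw [hd1] at this
    exact_mod_cast this.symm
  obtain ⟨k, hk⟩ := IsPGroup.iff_card.1 hG
  rw [hk] at hd2
  obtain ⟨j, _, hj⟩ := (Nat.dvd_prime_pow Fact.out).1 hd2
  rcases Nat.eq_zero_or_pos j with h0 | h0
  · rw [hd1, hj, h0]; simp
  · exact absurd (hd ▸ hj ▸ dvd_pow_self p h0.ne') hp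

theorem commutator_le_ker_of_not_dvd {p : ℕ} [Fact p.Prime] (R : Subgroup G) [R.Normal]
    (hR : IsPGroup p R) {θ : G → ℂ} (hθ : IsIrrCharacter G θ) (hp : ¬ p ∣ charDegree θ) :
    ∀ d ∈ ⁅R, R⁆, θ d = θ 1 := by
  classical
  have := Fintype.ofFinite G
  have : Fintype (⁅R, R⁆ : Subgroup G) := Fintype.ofFinite _
  rcases Cfsg.Agent.Lib.Helper19.irr_ker_or_sum_zero ⁅R, R⁆ hθ with h | h
  · exact h
  · exfalso
    have hθR : IsCharacter R (fun u : R => θ u) := isCharacter_restrict (isIrr_isChar hθ) R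
    obtain ⟨μ, hμ, hμp⟩ := exists_constituent_not_dvd (p := p) hθR hp
    have hμ1 : (μ : R → ℂ) 1 = 1 := irr_pgroup_linear_of_not_dvd hR μ.2 hμp
    have hμc := isIrr_isChar μ.2
    apply hμ
    unfold classInner
    have hDR : ∀ d : (⁅R, R⁆ : Subgroup G), (d : G) ∈ R := fun d => Subgroup.commutator_le_self R d.2
    have hμd : ∀ d : (⁅R, R⁆ : Subgroup G), (μ : R → ℂ) ⟨d, hDR d⟩ = 1 := by
      intro d
      apply isChar_linear_commutator hμc hμ1
      have hd2 : (d : G) ∈ (commutator R).map R.subtype := by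
        rw [Subgroup.map_subtype_commutator]
        exact d.2
      obtain ⟨y, hy, hyd⟩ := hd2
      have : y = ⟨d, hDR d⟩ := Subtype.ext hyd
      rw [← this]
      exact hy
    set S := ∑ u : R, θ u * conj ((μ : R → ℂ) u) with hS
    have h1 : ∀ d : (⁅R, R⁆ : Subgroup G),
        ∑ u : R, θ ((d : G) * u) * conj ((μ : R → ℂ) u) = S := by
      intro d
      have e : S = ∑ u : R, (fun u : R => θ u * conj ((μ : R → ℂ) u)) ((⟨d, hDR d⟩ : R) * u) :=
        (Equiv.sum_comp (Equiv.mulLeft (⟨d, hDR d⟩ : R)) _).symm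
      rw [e]
      apply Finset.sum_congr rfl
      intro u _
      show _ = θ (((⟨d, hDR d⟩ : R) * u : R) : G) * conj ((μ : R → ℂ) ((⟨d, hDR d⟩ : R) * u))
      rw [isChar_linear_mul hμc hμ1, hμd, one_mul]
      rfl
    have h2 : ∑ d : (⁅R, R⁆ : Subgroup G), ∑ u : R, θ ((d : G) * u) * conj ((μ : R → ℂ) u) = 0 := by
      rw [Finset.sum_comm]
      apply Finset.sum_eq_zero
      intro u _
      rw [← Finset.sum_mul, h (u : G), zero_mul]
    rw [Finset.sum_congr rfl (fun d _ => h1 d), Finset.sum_const, Finset.card_univ,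
      nsmul_eq_mul] at h2
    rcases mul_eq_zero.1 h2 with h3 | h3
    · exact absurd h3 (by exact_mod_cast Fintype.card_ne_zero)
    · rw [h3, mul_zero]

theorem exists_irr_quot_ne {p : ℕ} [Fact p.Prime] (R : Subgroup G) [R.Normal]
    (hR : ¬ p ∣ R.index) {x : G} (hx : x ∉ R) :
    ∃ θ : IrrCharacter G, ¬ p ∣ charDegree (θ : G → ℂ) ∧
      (∀ u ∈ R, (θ : G → ℂ) u = (θ : G → ℂ) 1) ∧ (θ : G → ℂ) x ≠ (θ : G → ℂ) 1 := by
  by_contra hcon
  push Not at hcon
  apply hx
  rw [← QuotientGroup.eq_one_iff]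
  have h1 : IsConj (x : G ⧸ R) 1 := by
    apply Cfsg.Agent.Lib.Helper83.isConj_of_irr_eq
    intro ψ
    have hψ : IsIrrCharacter G (fun g => (ψ : G ⧸ R → ℂ) (g : G ⧸ R)) := isIrr_inflate ψ.2
    apply hcon ⟨_, hψ⟩
    · obtain ⟨d, hd1, hd2, _⟩ := Cfsg.Agent.Lib.Helper77.irr_degree_dvd ψ.2
      have hd : charDegree (fun g => (ψ : G ⧸ R → ℂ) (g : G ⧸ R)) = d := by
        have := isChar_one_eq (isIrr_isChar hψ)
        have e : (ψ : G ⧸ R → ℂ) ((1 : G) : G ⧸ R) = d := hd1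
        rw [e] at this
        exact_mod_cast this.symm
      show ¬ p ∣ charDegree (fun g => (ψ : G ⧸ R → ℂ) (g : G ⧸ R))
      rw [hd]
      intro hpd
      apply hR
      rw [Subgroup.index_eq_card]
      exact hpd.trans hd2
    · intro u hu
      show (ψ : G ⧸ R → ℂ) (u : G ⧸ R) = (ψ : G ⧸ R → ℂ) ((1 : G) : G ⧸ R)
      rw [(QuotientGroup.eq_one_iff u).2 hu, QuotientGroup.mk_one]
  exact isConj_one_left.mp h1

end Cfsg.Agent.Lib.Helper84
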